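import Cfsg.Agent.H389.R.Def
import Cfsg.Agent.BpRee.PslOdd
import Cfsg.Agent.ClassicalGeometry.PSL2ElemOrder
import Cfsg.Agent.Classification.PSLTwoEvenSylow
import Cfsg.Agent.OddOrderLocal.FreeCyclic
import Cfsg.Agent.S0262
import Cfsg.Agent.S0806

/-!
# Local facts on `PSL(2, s^f)` for S3530 (helper393)
-/

set_option autoImplicit false
set_option linter.unusedSectionVars false

namespace Cfsg.Agent.H389.RSq

open Subgroup
open Cfsg.Agent.H389.JSq (Has)

universe u v

namespace PslLocal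

open Cfsg.Agent.ClassicalGeometry Cfsg.Agent.ClassicalGeometry.PSL2Basic
  Cfsg.Agent.Classification.PSLTwoEvenSylow

/-- `PSL(2, F)` -/
abbrev PL (F : Type*) [Field F] := Matrix.ProjectiveSpecialLinearGroup (Fin 2) F

theorem exists_lift_pgroup {K K' : Type*} [Group K] [Finite K] [Group K'] (f : K →* K')
    (hf : Function.Surjective f) {p : ℕ} [Fact p.Prime] (P' : Subgroup K') (hP' : IsPGroup p P') :
    ∃ T : Subgroup K, IsPGroup p T ∧ T.map f = P' := by
  have hfin : Finite K' := Finite.of_surjective f hf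
  obtain ⟨P₁, hP₁⟩ := hP'.exists_le_sylow
  obtain ⟨S, hS⟩ := Sylow.mapSurjective_surjective hf p P₁
  have hSP : (P₁ : Subgroup K') = (S : Subgroup K).map f := by rw [← hS]; rfl
  refine ⟨(S : Subgroup K) ⊓ P'.comap f, S.isPGroup'.to_le inf_le_left, ?_⟩
  apply le_antisymm
  · rintro _ ⟨s, ⟨-, hs⟩, rfl⟩
    exact hs
  · intro x hx
    have h1 : x ∈ (S : Subgroup K).map f := by rw [← hSP]; exact hP₁ hx
    obtain ⟨s, hs, rfl⟩ := h1
    exact ⟨s, ⟨hs, hx⟩, rfl⟩

section field

variable {F : Type*} [Field F] [Fintype F]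

theorem charP_of_card {s f : ℕ} (hs : s.Prime) (hF : Fintype.card F = s ^ f) : CharP F s := by
  obtain ⟨q, hq⟩ := CharP.exists F
  obtain ⟨n, hq', hn⟩ := FiniteField.card F q
  have h1 : q ∣ s ^ f := by
    rw [← hF, hn]; exact dvd_pow_self q n.pos.ne'
  have h2 : q = s := (Nat.prime_dvd_prime_iff_eq hq' hs).1 (hq'.dvd_of_dvd_pow h1)
  rwa [← h2]

theorem f_ne_zero {s f : ℕ} (hF : Fintype.card F = s ^ f) : f ≠ 0 := by
  rintro rfl
  have := Fintype.one_lt_card (α := F)
  rw [hF, pow_zero] at this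
  omega

/-- odd subgroups of prime power order prime to the characteristic are cyclic -/
theorem isCyclic_of {s : ℕ} [Fact s.Prime] [CharP F s] {p : ℕ} (hp : p.Prime) (hp2 : p ≠ 2) (hps : p ≠ s)
    {R : Subgroup (PL F)} (hR : IsPGroup p R) : IsCyclic R := by
  have := Fact.mk hp
  obtain ⟨S, hS, hSR⟩ := exists_lift_pgroup (PSLTorus.pr F) (PSLTorus.pr_surjective F) R hR
  have h1 : IsCyclic S := S0262.isCyclic_of_isPGroup s p hp2 hps S hS
  rw [← hSR]
  exact isCyclic_of_surjective ((PSLTorus.pr F).subgroupMap S) (MonoidHom.subgroupMap_surjective _ S)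

/-- centralizers of elements of odd order are abelian -/
theorem comm_of_odd {g : PL F} {n : ℕ} (hn : Odd n)
    (hg : g ^ n = 1) (hg1 : g ≠ 1) {a b : PL F} (ha : a * g = g * a)
    (hb : b * g = g * b) : a * b = b * a := by
  by_cases h2 : (2 : F) = 0
  · have hneg : ∀ X : Matrix.SpecialLinearGroup (Fin 2) F, -X = X := by
      intro X
      rw [← neg_one_mul, PSLTorus.neg_one_eq_one h2, one_mul]
    obtain ⟨A, rfl⟩ := PSLTorus.pr_surjective F g
    obtain ⟨B, rfl⟩ := PSLTorus.pr_surjective F a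
    obtain ⟨C, rfl⟩ := PSLTorus.pr_surjective F b
    have key : ∀ {X Y : Matrix.SpecialLinearGroup (Fin 2) F}, PSLTorus.pr F X = PSLTorus.pr F Y → X = Y := by
      intro X Y h
      rcases (PSLTorus.pr_eq_iff X Y).1 h with h | h
      · exact h
      · rw [h, hneg]
    rw [← map_mul, ← map_mul] at ha hb
    have ha' := key ha
    have hb' := key hb
    have hns : A.1 0 1 ≠ 0 ∨ A.1 1 0 ≠ 0 ∨ A.1 0 0 - A.1 1 1 ≠ 0 := by
      by_contra hcon
      push Not at hcon
      obtain ⟨e1, e2, e3⟩ := hcon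
      have hdet := A.2
      rw [Matrix.det_fin_two, e1, e2, mul_zero, sub_zero, ← sub_eq_zero.1 e3] at hdet
      apply hg1
      rw [PSLTorus.pr_eq_one_iff]
      left
      have h1 : A.1 0 0 = 1 := by
        rcases mul_self_eq_one_iff.1 hdet with h | h
        · exact h
        · rw [h]; linear_combination -h2
      apply Subtype.ext
      ext i j
      fin_cases i <;> fin_cases j
      · simpa using h1
      · simpa using e1
      · simpa using e2
      · have : A.1 1 1 = 1 := by rw [← sub_eq_zero.1 e3, h1]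
        simpa using this
    have h3 : B.1 * C.1 = C.1 * B.1 :=
      BpRee.PslOdd.mat_comm hns (congrArg Subtype.val ha').symm (congrArg Subtype.val hb').symm
    rw [← map_mul, ← map_mul]
    congr 1
    exact Subtype.ext h3
  · exact BpRee.PslOdd.comm_of_odd h2 hn hg hg1 ha hb

end field

/-- the normalizer of a cyclic subgroup with abelian centralizer is soluble -/
theorem isSolvable_of_cyclic {G : Type*} [Group G] {T : Subgroup G} (hT : IsCyclic T)
    (hC : ∀ a ∈ centralizer (T : Set G), ∀ b ∈ centralizer (T : Set G), a * b = b * a) :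
    Group.IsSolvable (normalizer (T : Set G)) := by
  have h1 : ∀ x y : MulAut T, x * y = y * x := by
    intro x y
    apply (hT.mulAutMulEquiv).injective
    rw [map_mul, map_mul, mul_comm]
  have h2 : Group.IsSolvable (MulAut T) := by
    let _ : CommGroup (MulAut T) := { (inferInstance : Group (MulAut T)) with mul_comm := h1 }
    exact inferInstance
  have h3 : Group.IsSolvable (T.normalizerMonoidHom.ker) := by
    let _ : CommGroup (T.normalizerMonoidHom.ker) :=
      { (inferInstance : Group (T.normalizerMonoidHom.ker)) with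
        mul_comm := by
          rintro ⟨a, ha⟩ ⟨b, hb⟩
          rw [normalizerMonoidHom_ker, mem_subgroupOf] at ha hb
          exact Subtype.ext (Subtype.ext (hC _ ha _ hb)) }
    exact inferInstance
  exact Group.isSolvable_of_ker_le_range (T.normalizerMonoidHom.ker).subtype T.normalizerMonoidHom (by simp)

section solv

variable {F : Type*} [Field F] [Fintype F]

theorem isSolvable_psl {s : ℕ} [Fact s.Prime] [CharP F s] {p : ℕ} (hp : p.Prime) (hp2 : p ≠ 2)
    {T : Subgroup (PL F)} (hT : IsPGroup p T) (hT1 : T ≠ ⊥) : Group.IsSolvable (normalizer (T : Set (PL F))) := by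
  have _ := Fact.mk hp
  by_cases hps : p = s
  · subst hps
    obtain ⟨P, -, hP⟩ := PSL2ElemOrder.le_normalizer_of_normal p (normalizer (T : Set (PL F))) T hT hT1 le_rfl
    exact PSL2Solvable.isSolvable_of_le_normalizer p P _ hP
  · have hc := isCyclic_of hp hp2 hps hT
    refine isSolvable_of_cyclic hc fun a ha b hb => ?_
    obtain ⟨x, hx, hx1⟩ := (bot_or_exists_ne_one T).resolve_left hT1
    obtain ⟨n, hn⟩ := IsPGroup.iff_orderOf.1 hT ⟨x, hx⟩
    rw [Subgroup.orderOf_mk] at hn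
    have hxn : x ^ (p ^ n) = 1 := by rw [← hn]; exact pow_orderOf_eq_one x
    exact comm_of_odd ((hp.odd_of_ne_two hp2).pow) hxn hx1 (ha x hx).symm (hb x hx).symm

end solv

section cyc

/-- a Sylow subgroup of a commutative subgroup of index prime to `r` -/
theorem index_dvd {G : Type*} [Group G] [Finite G] {r : ℕ} [Fact r.Prime] {C : Subgroup G}
    (hC : ∀ a ∈ C, ∀ b ∈ C, a * b = b * a) (hr : ¬ r ∣ C.index) (T : Sylow r G) :
    (normalizer ((T : Subgroup G) : Set G)).index ∣ C.index := by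
  obtain ⟨Q⟩ : Nonempty (Sylow r C) := inferInstance
  have hQ : IsPGroup r ((Q : Subgroup C).map C.subtype) := Q.2.map _
  have hQi : ¬ r ∣ ((Q : Subgroup C).map C.subtype).index := by
    rw [Subgroup.index_map_subtype]
    intro hd
    rcases (Fact.out : r.Prime).dvd_mul.1 hd with h | h
    · exact Q.not_dvd_index h
    · exact hr h
  obtain ⟨g, hg⟩ := MulAction.exists_smul_eq G (hQ.toSylow hQi) T
  have h1 : (T : Subgroup G) = ((Q : Subgroup C).map C.subtype).map (MulAut.conj g).toMonoidHom := by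
    rw [← hg]; rfl
  have h2 : C.map (MulAut.conj g).toMonoidHom ≤ normalizer ((T : Subgroup G) : Set G) := by
    rintro _ ⟨c, hc, rfl⟩
    rw [mem_normalizer_iff]
    have key : ∀ c ∈ C, ∀ x ∈ (T : Subgroup G), (g * c * g⁻¹) * x * (g * c * g⁻¹)⁻¹ = x := by
      intro c hc x hx
      rw [h1] at hx
      obtain ⟨y, hy, rfl⟩ := hx
      have hyC : y ∈ C := by
        obtain ⟨z, -, rfl⟩ := hy
        exact z.2
      have e1 : (MulAut.conj g).toMonoidHom y = g * y * g⁻¹ := rfl
      rw [e1]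
      have e2 := hC c hc y hyC
      calc g * c * g⁻¹ * (g * y * g⁻¹) * (g * c * g⁻¹)⁻¹ = g * (c * y) * c⁻¹ * g⁻¹ := by group
        _ = g * (y * c) * c⁻¹ * g⁻¹ := by rw [e2]
        _ = _ := by group
    intro x
    have e1 : (MulAut.conj g).toMonoidHom c = g * c * g⁻¹ := rfl
    rw [e1]
    constructor
    · intro hx
      change x ∈ (T : Subgroup G) at hx
      rw [key c hc x hx]; exact hx
    · intro hx
      change _ ∈ (T : Subgroup G) at hx
      have h3 := key c⁻¹ (C.inv_mem hc) _ hx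
      have h4 : g * c⁻¹ * g⁻¹ * (g * c * g⁻¹ * x * (g * c * g⁻¹)⁻¹) * (g * c⁻¹ * g⁻¹)⁻¹ = x := by group
      rw [h4] at h3
      rw [h3]; exact hx
  have h3 := Subgroup.index_dvd_of_le h2
  have h4 : (C.map (MulAut.conj g).toMonoidHom).index = C.index :=
    Subgroup.index_map_of_bijective (MulAut.conj g).bijective C
  rwa [h4] at h3

/-- if the Sylow `p`-subgroups are cyclic, then the subgroups of order `p` are conjugate -/
theorem exists_conj {G : Type*} [Group G] [Finite G] {p : ℕ} [Fact p.Prime]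
    (hcyc : ∀ P : Sylow p G, IsCyclic (P : Subgroup G)) {x y : G} (hx : orderOf x = p) (hy : orderOf y = p) :
    ∃ g : G, x ∈ zpowers (g * y * g⁻¹) := by
  have hzx : IsPGroup p (zpowers x) := IsPGroup.of_card (n := 1) (by rw [Nat.card_zpowers, hx, pow_one])
  have hzy : IsPGroup p (zpowers y) := IsPGroup.of_card (n := 1) (by rw [Nat.card_zpowers, hy, pow_one])
  obtain ⟨P, hP⟩ := hzx.exists_le_sylow
  obtain ⟨Q, hQ⟩ := hzy.exists_le_sylow
  obtain ⟨g, hg⟩ := MulAction.exists_smul_eq G Q P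
  refine ⟨g, ?_⟩
  have h1 : g * y * g⁻¹ ∈ (P : Subgroup G) := by
    rw [← hg]
    exact ⟨y, hQ (mem_zpowers y), rfl⟩
  have h2 : x ∈ (P : Subgroup G) := hP (mem_zpowers x)
  have := hcyc P
  have h3 : (⟨x, h2⟩ : (P : Subgroup G)) ∈ zpowers (⟨g * y * g⁻¹, h1⟩ : (P : Subgroup G)) := by
    apply OddOrderLocal.FreeCyclic.mem_zpowers_of_orderOf_dvd
    rw [Subgroup.orderOf_mk, Subgroup.orderOf_mk, hx]
    have : orderOf (g * y * g⁻¹) = orderOf y := (MulAut.conj g).orderOf_eq y
    rw [this, hy]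
  obtain ⟨k, hk⟩ := h3
  exact ⟨k, congrArg Subtype.val hk⟩

end cyc

section unip

variable {F : Type*} [Field F] [Fintype F]

/-- exponents -/
theorem exists_odd {t : ℕ} (j : ℕ) : ∃ m, Odd m ∧ (2 * t + 1) ^ (2 * j + 1) = 2 * (t * m) + 1 := by
  induction j with
  | zero => exact ⟨1, odd_one, by ring⟩
  | succ j ih =>
    obtain ⟨m, hm, h⟩ := ih
    refine ⟨m + (2 * t + 2) * (2 * (t * m) + 1), ?_, ?_⟩
    · refine hm.add_even ?_
      exact ((even_two.mul_right t).add even_two).mul_right _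
    · have : (2 * t + 1) ^ (2 * (j + 1) + 1) = (2 * t + 1) ^ 2 * (2 * t + 1) ^ (2 * j + 1) := by ring
      rw [this, h]; ring

/-- every element is a square times an element of the prime field, in odd degree -/
theorem exists_sq {s f : ℕ} (hs : s.Prime) (hs2 : s ≠ 2) (hf : Odd f) (hF : Fintype.card F = s ^ f)
    {c : F} (hc : c ≠ 0) : ∃ (k : ℕ) (a : F), a ≠ 0 ∧ c = (k : F) * a ^ 2 := by
  have _ : Fact s.Prime := ⟨hs⟩
  have _ : CharP F s := charP_of_card hs hF
  have hchar : ringChar F ≠ 2 := by rwa [ringChar.eq F s]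
  by_cases hsq : IsSquare c
  · obtain ⟨a, rfl⟩ := hsq
    refine ⟨1, a, fun h => hc (by rw [h, mul_zero]), by rw [Nat.cast_one, one_mul, pow_two]⟩
  obtain ⟨n, hn⟩ := FiniteField.exists_nonsquare (F := ZMod s) (by rwa [ZMod.ringChar_zmod_n])
  have hn0 : n ≠ 0 := by
    rintro rfl
    exact hn (IsSquare.zero)
  obtain ⟨t, ht⟩ := hs.odd_of_ne_two hs2
  obtain ⟨j, rfl⟩ := hf
  obtain ⟨m, hm, hm'⟩ := exists_odd (t := t) j
  have hs' : s / 2 = t := by omega
  have hF' : Fintype.card F / 2 = t * m := by rw [hF, ht, hm']; omega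
  have e1 : n ^ t = -1 := by
    have h1 := ZMod.euler_criterion s hn0
    have h2 := ZMod.pow_div_two_eq_neg_one_or_one s hn0
    rw [hs'] at h1 h2
    exact h2.resolve_left fun h => hn (h1.2 h)
  have e2 : ((n.val : ℕ) : F) ^ t = -1 := by
    have h1 := congrArg (ZMod.castHom (dvd_refl s) F) e1
    rw [map_pow, map_neg, map_one] at h1
    have h2 : ZMod.castHom (dvd_refl s) F n = ((n.val : ℕ) : F) := by
      rw [ZMod.castHom_apply, ZMod.natCast_val]
    rwa [h2] at h1
  have hk0 : ((n.val : ℕ) : F) ≠ 0 := by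
    intro h
    rw [h] at e2
    have ht0 : t ≠ 0 := by
      rintro rfl
      exact hs.one_lt.ne' (by omega)
    rw [zero_pow ht0] at e2
    exact one_ne_zero (neg_eq_zero.1 e2.symm)
  have hk : ¬ IsSquare ((n.val : ℕ) : F) := by
    rw [FiniteField.isSquare_iff hchar hk0, hF', pow_mul, e2, hm.neg_one_pow]
    exact Ring.neg_one_ne_one_of_char_ne_two hchar
  have hck : IsSquare (c * ((n.val : ℕ) : F)) := by
    rw [FiniteField.isSquare_iff hchar (mul_ne_zero hc hk0), mul_pow]
    have h1 := (FiniteField.pow_dichotomy hchar hc).resolve_left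
      fun h => hsq ((FiniteField.isSquare_iff hchar hc).2 h)
    have h2 := (FiniteField.pow_dichotomy hchar hk0).resolve_left
      fun h => hk ((FiniteField.isSquare_iff hchar hk0).2 h)
    rw [h1, h2]; ring
  obtain ⟨b, hb⟩ := hck
  have hb0 : b ≠ 0 := by
    rintro rfl
    rw [mul_zero] at hb
    exact mul_ne_zero hc hk0 hb
  refine ⟨n.val, b / (n.val : F), div_ne_zero hb0 hk0, ?_⟩
  field_simp
  linear_combination hb

/-- the diagonal matrices in `SL` -/
def dsl (a : F) (ha : a ≠ 0) : Matrix.SpecialLinearGroup (Fin 2) F :=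
  ⟨!![a, 0; 0, a⁻¹], by rw [Matrix.det_fin_two_of, mul_inv_cancel₀ ha, mul_zero, sub_zero]⟩

/-- the diagonal matrices -/
def dg (a : F) (ha : a ≠ 0) : PL F := PSLTorus.pr F (dsl a ha)

theorem dsl_coe (a : F) (ha : a ≠ 0) : (dsl a ha).1 = !![a, 0; 0, a⁻¹] := rfl

theorem uni_coe (b : F) : (uni (Multiplicative.ofAdd b)).1 = !![1, b; 0, 1] := rfl

theorem dsl_conj (a : F) (ha : a ≠ 0) (b : F) :
    dsl a ha * uni (Multiplicative.ofAdd b) = uni (Multiplicative.ofAdd (a ^ 2 * b)) * dsl a ha := by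
  apply Subtype.ext
  rw [Matrix.SpecialLinearGroup.coe_mul, Matrix.SpecialLinearGroup.coe_mul, dsl_coe, uni_coe, uni_coe,
    Matrix.mul_fin_two, Matrix.mul_fin_two]
  have : a ^ 2 * b * a⁻¹ = a * b := by field_simp
  simp [this]

theorem dg_conj (a : F) (ha : a ≠ 0) (b : F) :
    dg a ha * uniP (Multiplicative.ofAdd b) * (dg a ha)⁻¹ = uniP (Multiplicative.ofAdd (a ^ 2 * b)) := by
  rw [mul_inv_eq_iff_eq_mul]
  have h := congrArg (PSLTorus.pr F) (dsl_conj a ha b)
  rw [map_mul, map_mul] at h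
  exact h

theorem orderOf_uniP {s : ℕ} [Fact s.Prime] [CharP F s] {b : F} (hb : b ≠ 0) :
    orderOf (uniP (Multiplicative.ofAdd b) : PL F) = s := by
  rw [orderOf_injective _ uniP_injective]
  refine orderOf_eq_prime ?_ ?_
  · rw [← ofAdd_nsmul, nsmul_eq_mul, CharP.cast_eq_zero, zero_mul]; rfl
  · intro h
    exact hb (Multiplicative.ofAdd.injective (h.trans ofAdd_zero.symm))

theorem exists_uniP {s f : ℕ} (hs : s.Prime) (hF : Fintype.card F = s ^ f) {x : PL F} (hx : orderOf x = s) :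
    ∃ (g : PL F) (b : F), b ≠ 0 ∧ x = g * uniP (Multiplicative.ofAdd b) * g⁻¹ := by
  have _ : Fact s.Prime := ⟨hs⟩
  have hf := f_ne_zero hF
  set U : Subgroup (PL F) := (uniP (F := F)).range with hU
  have hcU : Nat.card U = s ^ f := by
    rw [← Nat.card_congr (MonoidHom.ofInjective (uniP_injective (F := F))).toEquiv, ← hF]
    rw [← Nat.card_eq_fintype_card]
    exact Nat.card_congr Multiplicative.toAdd
  have hpU : IsPGroup s U := IsPGroup.of_card hcU
  have hcard := PSL2Basic.card_PSL2_gcd F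
  have hidx : ¬ s ∣ U.index := by
    intro hd
    rw [← U.card_mul_index, hcU, hF, mul_assoc] at hcard
    have h1 := Nat.eq_of_mul_eq_mul_left (pow_pos hs.pos f) hcard
    have h2 : s ∣ (s ^ f) ^ 2 - 1 := by rw [← h1]; exact hd.mul_right _
    have h3 : s ∣ (s ^ f) ^ 2 := (dvd_pow_self s hf).trans (dvd_pow_self _ two_ne_zero)
    have h4 : 0 < (s ^ f) ^ 2 := pow_pos (pow_pos hs.pos f) 2
    have h5 : s ∣ (s ^ f) ^ 2 - ((s ^ f) ^ 2 - 1) := Nat.dvd_sub h3 h2
    rw [show (s ^ f) ^ 2 - ((s ^ f) ^ 2 - 1) = 1 by omega] at h5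
    exact hs.one_lt.ne' (Nat.dvd_one.1 h5)
  have hzx : IsPGroup s (zpowers x) := IsPGroup.of_card (n := 1) (by rw [Nat.card_zpowers, hx, pow_one])
  obtain ⟨P, hP⟩ := hzx.exists_le_sylow
  obtain ⟨g, hg⟩ := MulAction.exists_smul_eq (PL F) (hpU.toSylow hidx) P
  have h1 : x ∈ (P : Subgroup (PL F)) := hP (mem_zpowers x)
  rw [← hg] at h1
  obtain ⟨y, ⟨b, hb⟩, hy⟩ := h1
  refine ⟨g, Multiplicative.toAdd b, ?_, ?_⟩
  · intro h0
    have hb1 : b = 1 := Multiplicative.toAdd.injective h0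
    rw [hb1, map_one] at hb
    have hy' : g * y * g⁻¹ = x := hy
    rw [← hb, mul_one, mul_inv_cancel] at hy'
    rw [← hy', orderOf_one] at hx
    exact hs.one_lt.ne hx
  · rw [ofAdd_toAdd, hb]
    exact hy.symm

/-- elements of order the characteristic are conjugate up to powers -/
theorem conj_char {s f : ℕ} (hs : s.Prime) (hs2 : s ≠ 2) (hf : Odd f) (hF : Fintype.card F = s ^ f) {x y : PL F}
    (hx : orderOf x = s) (hy : orderOf y = s) : ∃ g : PL F, g * x * g⁻¹ ∈ zpowers y := by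
  obtain ⟨g, b, hb, rfl⟩ := exists_uniP hs hF hx
  obtain ⟨h, c, hc, rfl⟩ := exists_uniP hs hF hy
  obtain ⟨k, a, ha, hk⟩ := exists_sq hs hs2 hf hF (div_ne_zero hb hc)
  have hbk : b = a ^ 2 * ((k : F) * c) := by
    rw [div_eq_iff hc] at hk
    rw [hk]; ring
  have e1 := dg_conj a ha ((k : F) * c)
  rw [← hbk] at e1
  refine ⟨h * (dg a ha)⁻¹ * g⁻¹, mem_zpowers_iff.2 ⟨(k : ℤ), ?_⟩⟩
  have e2 : (uniP (Multiplicative.ofAdd c) : PL F) ^ k = uniP (Multiplicative.ofAdd ((k : F) * c)) := by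
    rw [← map_pow, ← ofAdd_nsmul, nsmul_eq_mul]
  rw [zpow_natCast, conj_pow, e2, ← e1]
  group

theorem exists_pair {s f : ℕ} (hs : s.Prime) (hf : f ≠ 1) (hF : Fintype.card F = s ^ f) :
    ∃ a b : PL F, orderOf a = s ∧ orderOf b = s ∧ Commute a b ∧ b ∉ zpowers a := by
  have _ : Fact s.Prime := ⟨hs⟩
  have _ : CharP F s := charP_of_card hs hF
  have hf0 := f_ne_zero hF
  obtain ⟨l, hl⟩ : ∃ l : F, l ∉ Set.range (ZMod.castHom (dvd_refl s) F) := by
    by_contra hcon
    push Not at hcon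
    have h1 : Function.Surjective (ZMod.castHom (dvd_refl s) F) := hcon
    have h2 := Fintype.card_le_of_surjective _ h1
    rw [ZMod.card, hF] at h2
    have h3 : s ^ 1 < s ^ f := Nat.pow_lt_pow_right hs.one_lt (by omega)
    rw [pow_one] at h3
    omega
  have hl0 : l ≠ 0 := by
    rintro rfl
    exact hl ⟨0, map_zero _⟩
  refine ⟨uniP (Multiplicative.ofAdd 1), uniP (Multiplicative.ofAdd l), orderOf_uniP one_ne_zero, orderOf_uniP hl0,
    ?_, ?_⟩
  · exact (Commute.all (Multiplicative.ofAdd (1 : F)) (Multiplicative.ofAdd l)).map uniP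
  · intro h
    obtain ⟨k, hk⟩ := mem_zpowers_iff.1 h
    rw [← map_zpow] at hk
    have h1 := uniP_injective hk
    rw [← ofAdd_zsmul] at h1
    have h2 := Multiplicative.ofAdd.injective h1
    apply hl
    refine ⟨(k : ZMod s), ?_⟩
    rw [map_intCast, ← h2, zsmul_eq_mul, mul_one]

end unip

end PslLocal

variable {s f : ℕ} {L : Type u} [Group L] [Finite L]

theorem IsL2.isSolvable_normalizer (h : IsL2 s f L) {p : ℕ} (hp : p.Prime) (hp2 : p ≠ 2) {T : Subgroup L}
    (hT : IsPGroup p T) (hT1 : T ≠ ⊥) : Group.IsSolvable (normalizer (T : Set L)) := by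
  obtain ⟨hs, F, _, _, hF, ⟨e⟩⟩ := h.psl
  have _ : Fact s.Prime := ⟨hs⟩
  have _ : CharP F s := PslLocal.charP_of_card hs hF
  have hT' : IsPGroup p (T.map e.toMonoidHom) := hT.map _
  have hT1' : T.map e.toMonoidHom ≠ ⊥ := by
    intro h0
    exact hT1 ((Subgroup.map_eq_bot_iff_of_injective _ e.injective).1 h0)
  have hsol := PslLocal.isSolvable_psl hp hp2 hT' hT1'
  have hle : (normalizer (T : Set L)).map e.toMonoidHom ≤ normalizer ((T.map e.toMonoidHom : Subgroup _) : Set _) :=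
    Subgroup.le_normalizer_map e.toMonoidHom
  have hsol2 : Group.IsSolvable ((normalizer (T : Set L)).map e.toMonoidHom) :=
    Group.isSolvable_of_isSolvable_injective (Subgroup.inclusion_injective hle)
  exact Group.isSolvable_of_isSolvable_injective
    (f := ((normalizer (T : Set L)).equivMapOfInjective e.toMonoidHom e.injective).toMonoidHom)
    ((normalizer (T : Set L)).equivMapOfInjective e.toMonoidHom e.injective).injective

theorem IsL2.not_dvd_index (h : IsL2 s f L) {r v : ℕ} [Fact r.Prime] (hr2 : r ≠ 2) (hr : r ∣ s ^ f + 1)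
    (hv : v.Prime) (hv2 : v ≠ 2) (hvs : v ≠ s) (hvd : ¬ v ∣ s ^ f - 1) (T : Sylow r L) :
    ¬ v ∣ (normalizer ((T : Subgroup L) : Set L)).index := by
  obtain ⟨hs, F, _, _, hF, ⟨e⟩⟩ := h.psl
  have hrp : r.Prime := Fact.out
  obtain ⟨C, H, -, -, hCc, hC, -, -⟩ := ClassicalGeometry.PSLTorus.exists_psl_torus F
  have hcard := ClassicalGeometry.PSL2Basic.card_PSL2_gcd F
  have hq1 : 1 < Fintype.card F := Fintype.one_lt_card
  have hg : 0 < Nat.gcd 2 (Fintype.card F - 1) := Nat.gcd_pos_of_pos_left _ (by norm_num)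
  have hg2 : Nat.gcd 2 (Fintype.card F - 1) ∣ Fintype.card F + 1 := by
    have h1 : Nat.gcd 2 (Fintype.card F - 1) ∣ Fintype.card F - 1 := Nat.gcd_dvd_right _ _
    have h2 : Nat.gcd 2 (Fintype.card F - 1) ∣ 2 := Nat.gcd_dvd_left _ _
    have h3 : Fintype.card F + 1 = (Fintype.card F - 1) + 2 := by omega
    rw [h3]; exact dvd_add h1 h2
  have hi : C.index = Fintype.card F * (Fintype.card F - 1) := by
    have h1 := C.card_mul_index
    have h2 : Nat.card C * Nat.gcd 2 (Fintype.card F - 1) = Fintype.card F + 1 := by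
      rw [hC]; exact Nat.div_mul_cancel hg2
    have h3 : Fintype.card F ^ 2 - 1 = (Fintype.card F + 1) * (Fintype.card F - 1) := by
      have := Nat.sq_sub_sq (Fintype.card F) 1
      rwa [one_pow] at this
    rw [← h1, h3] at hcard
    have h4 : (Fintype.card F + 1) * C.index =
        (Fintype.card F + 1) * (Fintype.card F * (Fintype.card F - 1)) := by
      rw [← h2]
      calc Nat.card C * Nat.gcd 2 (Fintype.card F - 1) * C.index
          = Nat.card C * C.index * Nat.gcd 2 (Fintype.card F - 1) := by ring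
        _ = _ := by rw [hcard, ← h2]; ring
    exact Nat.eq_of_mul_eq_mul_left (by omega) h4
  set C' : Subgroup L := C.map e.symm.toMonoidHom with hC'
  have hi' : C'.index = s ^ f * (s ^ f - 1) := by
    rw [← hF, ← hi]
    exact Subgroup.index_map_of_bijective e.symm.bijective C
  have hcomm : ∀ a ∈ C', ∀ b ∈ C', a * b = b * a := by
    rintro _ ⟨a, ha, rfl⟩ _ ⟨b, hb, rfl⟩
    have := hCc.isMulCommutative
    have h1 : a * b = b * a := congrArg Subtype.val (mul_comm' (⟨a, ha⟩ : C) ⟨b, hb⟩)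
    rw [← map_mul, ← map_mul, h1]
  have hrs : ¬ r ∣ s ^ f := by
    intro h1
    have h2 := (Nat.dvd_add_right h1).1 hr
    exact hrp.one_lt.ne' (Nat.dvd_one.1 h2)
  have hrm : ¬ r ∣ s ^ f - 1 := by
    intro h1
    have h2 : s ^ f + 1 = (s ^ f - 1) + 2 := by omega
    rw [h2] at hr
    have h3 := (Nat.dvd_add_right h1).1 hr
    exact hr2 ((Nat.prime_dvd_prime_iff_eq hrp Nat.prime_two).1 h3)
  have h1 := PslLocal.index_dvd hcomm (r := r) (by
    rw [hi']
    intro hd
    rcases hrp.dvd_mul.1 hd with h | h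
    · exact hrs h
    · exact hrm h) T
  intro hd
  have h2 := hd.trans h1
  rw [hi'] at h2
  rcases hv.dvd_mul.1 h2 with h | h
  · exact hvs ((Nat.prime_dvd_prime_iff_eq hv hs).1 (hv.dvd_of_dvd_pow h))
  · exact hvd h

theorem IsL2.conj_char (h : IsL2 s f L) (hs : s ≠ 2) {x y : L} (hx : orderOf x = s) (hy : orderOf y = s) :
    ∃ g : L, g * x * g⁻¹ ∈ zpowers y := by
  obtain ⟨hsp, F, _, _, hF, ⟨e⟩⟩ := h.psl
  obtain ⟨g, hg⟩ := PslLocal.conj_char hsp hs h.odd hF (x := e x) (y := e y)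
    (by rw [e.orderOf_eq, hx]) (by rw [e.orderOf_eq, hy])
  obtain ⟨k, hk⟩ := mem_zpowers_iff.1 hg
  refine ⟨e.symm g, mem_zpowers_iff.2 ⟨k, e.injective ?_⟩⟩
  rw [map_zpow, hk, map_mul, map_mul, map_inv, e.apply_symm_apply]

theorem IsL2.exists_pair (h : IsL2 s f L) (hs : s ≠ 2) (hf : f ≠ 1) :
    ∃ a b : L, orderOf a = s ∧ orderOf b = s ∧ Commute a b ∧ b ∉ zpowers a := by
  obtain ⟨hsp, F, _, _, hF, ⟨e⟩⟩ := h.psl
  obtain ⟨a, b, ha, hb, hab, hn⟩ := PslLocal.exists_pair hsp hf hF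
  refine ⟨e.symm a, e.symm b, by rw [e.symm.orderOf_eq, ha], by rw [e.symm.orderOf_eq, hb], hab.map e.symm, ?_⟩
  intro hm
  obtain ⟨k, hk⟩ := mem_zpowers_iff.1 hm
  rw [← map_zpow] at hk
  exact hn (mem_zpowers_iff.2 ⟨k, e.symm.injective hk⟩)

theorem IsL2.exists_three (h : IsL2 s f L) :
    ∃ z : L, orderOf z = 3 ∧ ∀ α : MulAut L, ∃ g : L, α z ∈ zpowers (g * z * g⁻¹) := by
  obtain ⟨hs, F, _, _, hF, ⟨e⟩⟩ := h.psl
  have _ : Fact (Nat.Prime 3) := ⟨Nat.prime_three⟩
  have _ : Fact s.Prime := ⟨hs⟩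
  have _ : CharP F s := PslLocal.charP_of_card hs hF
  have hcard := ClassicalGeometry.PSL2Basic.card_PSL2_gcd F
  have hq1 : 1 < Fintype.card F := Fintype.one_lt_card
  have h3 : 3 ∣ Nat.card L := by
    rw [Nat.card_congr e.toEquiv]
    have h1 : 3 ∣ Fintype.card F * (Fintype.card F ^ 2 - 1) := by
      obtain ⟨q, hq⟩ : ∃ q, Fintype.card F = q := ⟨_, rfl⟩
      rw [hq] at hq1 ⊢
      have h2 : q ^ 2 - 1 = (q + 1) * (q - 1) := by
        have := Nat.sq_sub_sq q 1
        rwa [one_pow] at this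
      rw [h2]
      have h4 : q % 3 = 0 ∨ q % 3 = 1 ∨ q % 3 = 2 := by omega
      rcases h4 with h4 | h4 | h4
      · exact (Nat.dvd_of_mod_eq_zero h4).mul_right _
      · exact (Dvd.dvd.mul_left (by omega : 3 ∣ q - 1) _).mul_left _
      · exact (Dvd.dvd.mul_right (by omega : 3 ∣ q + 1) _).mul_left _
    rw [← hcard] at h1
    rcases Nat.prime_three.dvd_mul.1 h1 with h2 | h2
    · exact h2
    · exfalso
      have := Nat.le_of_dvd (by norm_num) (h2.trans (Nat.gcd_dvd_left _ _))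
      omega
  obtain ⟨z, hz⟩ := exists_prime_orderOf_dvd_card' 3 h3
  refine ⟨z, hz, fun α => ?_⟩
  have hαz : orderOf (α z) = 3 := by rw [α.orderOf_eq, hz]
  by_cases hs3 : s = 3
  · subst hs3
    obtain ⟨g, hg⟩ := h.conj_char (by norm_num) hαz hz
    obtain ⟨k, hk⟩ := mem_zpowers_iff.1 hg
    refine ⟨g⁻¹, mem_zpowers_iff.2 ⟨k, ?_⟩⟩
    rw [conj_zpow, hk]
    group
  · refine PslLocal.exists_conj (p := 3) (fun P => ?_) hαz hz
    have h1 : IsCyclic ((P : Subgroup L).map e.toMonoidHom) :=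
      PslLocal.isCyclic_of Nat.prime_three (by norm_num) (Ne.symm hs3) (P.2.map _)
    exact ((P : Subgroup L).equivMapOfInjective e.toMonoidHom e.injective).isCyclic.2 h1

theorem IsL2.le_index (h : IsL2 s f L) {C : Subgroup L} (hC : C ≠ ⊤) :
    s ^ f + 1 ≤ C.index := by
  obtain ⟨hs, F, _, _, hF, ⟨e⟩⟩ := h.psl
  have h1 : C.map e.toMonoidHom ≠ ⊤ := by
    intro h0
    apply hC
    rw [eq_top_iff]
    intro x _
    have : e x ∈ C.map e.toMonoidHom := by rw [h0]; exact mem_top _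
    obtain ⟨y, hy, hyx⟩ := this
    rwa [← e.injective hyx]
  have h2 : (C.map e.toMonoidHom).index = C.index := by
    exact Subgroup.index_map_of_bijective e.bijective C
  rw [← h2]
  refine (S0806.result hF ?_).1 _ h1
  simp only [Finset.mem_insert, Finset.mem_singleton, not_or]
  rcases h.type with ⟨rfl, hf⟩ | ⟨-, -, hu⟩
  · have h8 : 8 ∣ 2 ^ f := (pow_dvd_pow 2 hf : 2 ^ 3 ∣ 2 ^ f)
    have h9 : 0 < 2 ^ f := by positivity
    omega
  · omega

end Cfsg.Agent.H389.RSq
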